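import Cfsg.Agent.H424.Spr.Core

/-!
# 3/2-generation: automorphisms of prime order and generating pairs (helper463, S3938)

`Bd a` : the conclusion of `Spr` for the automorphism `a`.  `spr_of_prime` : automorphisms of prime order suffice.
`Gd u` : `u` lies in a generating pair; `Bd.of_inn` : then the inner automorphism `u` satisfies `Bd`.
-/

set_option autoImplicit false

namespace Cfsg.Agent.H463.G2

open Subgroup
open Cfsg.Agent.H424.Spr (Spr)

variable {L : Type*} [Group L]

/-- the conclusion of `Spr` for one automorphism -/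
def Bd (a : MulAut L) : Prop := ∃ x : L, ∀ K : Subgroup L, x ∈ K → (∀ k ∈ K, a k ∈ K) → K = ⊤

theorem Bd.of_pow {a : MulAut L} {n : ℕ} (h : Bd (a ^ n)) : Bd a := by
  obtain ⟨x, hx⟩ := h
  refine ⟨x, fun K hK hinv => hx K hK ?_⟩
  have key : ∀ m : ℕ, ∀ k ∈ K, (a ^ m) k ∈ K := by
    intro m
    induction m with
    | zero => intro k hk; simpa using hk
    | succ m ih =>
      intro k hk
      rw [pow_succ', MulAut.mul_apply]
      exact hinv _ (ih k hk)
  exact key n

theorem Bd.of_conj {a e : MulAut L} (h : Bd (e * a * e⁻¹)) : Bd a := by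
  obtain ⟨x, hx⟩ := h
  refine ⟨e⁻¹ x, fun K hK hinv => ?_⟩
  have h1 := hx (K.comap (e⁻¹ : MulAut L).toMonoidHom) hK (by
    intro k hk
    change e⁻¹ ((e * a * e⁻¹) k) ∈ K
    rw [MulAut.mul_apply, MulAut.mul_apply, MulAut.inv_apply_self]
    exact hinv _ hk)
  rw [eq_top_iff]
  intro y _
  have h2 : e y ∈ K.comap (e⁻¹ : MulAut L).toMonoidHom := by rw [h1]; exact mem_top _
  have h3 : e⁻¹ (e y) ∈ K := h2
  rwa [MulAut.inv_apply_self] at h3

theorem Bd.of_gen {a : MulAut L} {x : L} (h : closure ({x, a x} : Set L) = ⊤) : Bd a := by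
  refine ⟨x, fun K hK hinv => ?_⟩
  rw [eq_top_iff, ← h, closure_le]
  rintro y (rfl | hy)
  · exact hK
  · rw [Set.mem_singleton_iff.1 hy]
    exact hinv x hK

/-- `u` lies in a generating pair -/
def Gd (u : L) : Prop := ∃ x : L, closure ({x, u} : Set L) = ⊤

theorem Gd.of_zpowers {u v : L} (h : zpowers u = zpowers v) (hu : Gd u) : Gd v := by
  obtain ⟨x, hx⟩ := hu
  refine ⟨x, ?_⟩
  rw [eq_top_iff, ← hx, closure_le]
  rintro y (rfl | hy)
  · exact subset_closure (Set.mem_insert _ _)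
  · rw [Set.mem_singleton_iff.1 hy]
    have h1 : u ∈ zpowers v := by rw [← h]; exact mem_zpowers u
    have h2 : zpowers v ≤ closure ({x, v} : Set L) :=
      zpowers_le.2 (subset_closure (Set.mem_insert_of_mem _ (Set.mem_singleton v)))
    exact h2 h1

theorem Gd.of_conj {u c : L} (hu : Gd (c * u * c⁻¹)) : Gd u := by
  obtain ⟨x, hx⟩ := hu
  refine ⟨c⁻¹ * x * c, ?_⟩
  set K : Subgroup L := closure ({c⁻¹ * x * c, u} : Set L) with hK
  have h1 : closure ({x, c * u * c⁻¹} : Set L) ≤ K.comap (MulAut.conj c⁻¹).toMonoidHom := by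
    rw [closure_le]
    rintro y (rfl | hy)
    · change c⁻¹ * y * c⁻¹⁻¹ ∈ K
      rw [inv_inv]
      exact subset_closure (Set.mem_insert _ _)
    · rw [Set.mem_singleton_iff.1 hy]
      change c⁻¹ * (c * u * c⁻¹) * c⁻¹⁻¹ ∈ K
      have e1 : c⁻¹ * (c * u * c⁻¹) * c⁻¹⁻¹ = u := by group
      rw [e1]
      exact subset_closure (Set.mem_insert_of_mem _ rfl)
  rw [hx] at h1
  rw [eq_top_iff]
  intro y _
  have h2 : c⁻¹ * (c * y * c⁻¹) * c⁻¹⁻¹ ∈ K := h1 (mem_top (c * y * c⁻¹))
  have e1 : c⁻¹ * (c * y * c⁻¹) * c⁻¹⁻¹ = y := by group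
  rwa [e1] at h2

theorem Bd.of_inn [IsSimpleGroup L] [Finite L] (hna : ∃ x y : L, x * y ≠ y * x) {u : L} (h : Gd u) :
    Bd (MulAut.conj u) := by
  obtain ⟨x, hx⟩ := h
  refine ⟨x, fun K hK hinv => ?_⟩
  have hu : u ∈ normalizer (K : Set L) := by
    have h1 : K.map (MulAut.conj u).toMonoidHom = K := by
      refine eq_of_le_of_card_ge ?_ ?_
      · rintro _ ⟨k, hk, rfl⟩
        exact hinv k hk
      · exact (Nat.card_congr (K.equivMapOfInjective _ (MulAut.conj u).injective).toEquiv).le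
    rw [mem_normalizer_iff]
    intro k
    constructor
    · intro hk
      exact hinv k hk
    · intro hk
      rw [← h1] at hk
      obtain ⟨k', hk', e⟩ := hk
      have e2 : u * k' * u⁻¹ = u * k * u⁻¹ := e
      have e3 : k' = k := mul_left_cancel (mul_right_cancel e2)
      rwa [← e3]
  have h2 : normalizer (K : Set L) = ⊤ := by
    rw [eq_top_iff, ← hx, closure_le]
    rintro y (rfl | hy)
    · exact le_normalizer hK
    · rw [Set.mem_singleton_iff.1 hy]
      exact hu
  have hn : K.Normal := normalizer_eq_top_iff.1 h2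
  rcases hn.eq_bot_or_eq_top with h3 | h3
  · exfalso
    rw [h3] at hK
    have hx1 : x = 1 := mem_bot.1 hK
    have h4 : zpowers u = ⊤ := by
      rw [eq_top_iff, ← hx, closure_le]
      rintro y (rfl | hy)
      · rw [hx1]
        exact one_mem _
      · rw [Set.mem_singleton_iff.1 hy]
        exact mem_zpowers u
    obtain ⟨a, b, hab⟩ := hna
    obtain ⟨i, rfl⟩ := mem_zpowers_iff.1 (show a ∈ zpowers u by rw [h4]; exact mem_top a)
    obtain ⟨j, rfl⟩ := mem_zpowers_iff.1 (show b ∈ zpowers u by rw [h4]; exact mem_top b)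
    exact hab (by rw [← zpow_add, ← zpow_add, add_comm])
  · exact h3

/-- automorphisms of prime order suffice -/
theorem spr_of_prime [Finite L] (h : ∀ a : MulAut L, ∀ p : ℕ, p.Prime → orderOf a = p → Bd a) : Spr L := by
  intro a ha
  have hfin : Finite (MulAut L) := Finite.of_injective (fun φ : MulAut L => (φ : L → L)) DFunLike.coe_injective
  have h1 : orderOf a ≠ 1 := fun h => ha (orderOf_eq_one_iff.1 h)
  obtain ⟨p, hp, hd⟩ := Nat.exists_prime_and_dvd h1
  obtain ⟨m, hm⟩ := hd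
  have hpos := orderOf_pos a
  have hm0 : m ≠ 0 := by
    rintro rfl
    rw [mul_zero] at hm
    omega
  have h2 : orderOf (a ^ m) = p := by
    rw [orderOf_pow_of_dvd hm0 ⟨p, by rw [hm, mul_comm]⟩, hm, Nat.mul_div_cancel _ (Nat.pos_of_ne_zero hm0)]
  exact (h _ p hp h2).of_pow

end Cfsg.Agent.H463.G2
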