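import Cfsg.Agent.H96.Rad2.GTwoThree
import Cfsg.Agent.H834.Sax.GTwo
import Cfsg.Agent.H463.G2.Bod

/-!
# Generating pairs of `G₂(3)` (helper463, S3938)

`crt x w ..` : four words in `x, w` have orders 7, 13, 8, 9 (kernel check in the matrix model).  `gen_of_crt` : then `x, w`
generate `G₂(3)`, because a proper subgroup misses a prime or has order 1092.
`TI`, `TO` : the certificates for the inner automorphisms of prime order and for the outer involutions.
-/

set_option autoImplicit false
set_option Elab.async false
set_option maxRecDepth 100000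

namespace Cfsg.Agent.H463.G2.GThree

open scoped Pointwise
open Subgroup Cfsg Cfsg.Lie
open Cfsg.Agent.GTwoThree.Model
open Cfsg.Agent.OddHalf.Small.G23Data Cfsg.Agent.OddHalf.Small.G23Check Cfsg.Agent.OddHalf.Small.G23
open Cfsg.Agent.H96.Rad2.G23
open Cfsg.Agent.OrdDiv (OrderTable)

attribute [local irreducible] Cfsg.Agent.GTwoThree.Model.ev Cfsg.Agent.GTwoThree.Model.y

/-- a word in `x` (true) and `w` (false) -/
def fl (x w : List ℕ) (t : List Bool) : List ℕ := t.flatMap fun b => cond b x w

/-- powers -/
def rp (n : ℕ) (w : List ℕ) : List ℕ := List.flatten (List.replicate n w)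

theorem ev_rp (n : ℕ) (w : List ℕ) : ev y (rp n w) = ev y w ^ n := by
  unfold rp
  induction n with
  | zero => simp [ev_nil]
  | succ n ih => rw [List.replicate_succ, List.flatten_cons, ev_append, ih, pow_succ']

theorem fl_mem (x w : List ℕ) (t : List Bool) : ev y (fl x w t) ∈ Subgroup.closure ({ev y x, ev y w} : Set ↥Gp) := by
  induction t with
  | nil =>
    change ev y [] ∈ _
    rw [ev_nil]
    exact one_mem _
  | cons b t ih =>
    have h1 : fl x w (b :: t) = cond b x w ++ fl x w t := by simp [fl]
    rw [h1, ev_append]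
    refine mul_mem ?_ ih
    cases b
    · exact subset_closure (Set.mem_insert_of_mem _ rfl)
    · exact subset_closure (Set.mem_insert _ _)

/-- the certificate -/
noncomputable def crt (x w : List ℕ) (t7 t13 t8 t9 : List Bool) : Bool :=
  ((eqc (rp 7 (fl x w t7)) [] && nec (fl x w t7) []) && (eqc (rp 13 (fl x w t13)) [] && nec (fl x w t13) [])) &&
  ((eqc (rp 8 (fl x w t8)) [] && nec (rp 4 (fl x w t8)) []) && (eqc (rp 9 (fl x w t9)) [] && nec (rp 3 (fl x w t9)) []))

theorem order_pow {p n : ℕ} (hp : p.Prime) {u : List ℕ} (h1 : eqc (rp (p ^ (n + 1)) u) [] = true)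
    (h2 : nec (rp (p ^ n) u) [] = true) : orderOf (ev y u) = p ^ (n + 1) := by
  have : Fact p.Prime := ⟨hp⟩
  refine orderOf_eq_prime_pow ?_ ?_
  · intro h
    apply ne_of_nec h2
    rw [ev_rp, h, ev_nil]
  · have h := eq_of_eqc h1
    rwa [ev_rp, ev_nil] at h

section

variable (OT : OrderTable.{0}) (hS : ∀ (X : Type) [Group X] [Finite X] [IsSimpleGroup X], Cfsg.IsKnownSimple' X)

include OT hS

theorem top_of_orders {K : Subgroup ↥Gp} {a b c d : ↥Gp} (ha : a ∈ K) (hb : b ∈ K) (hc : c ∈ K) (hd : d ∈ K)
    (oa : orderOf a = 7) (ob : orderOf b = 13) (oc : orderOf c = 8) (od : orderOf d = 9) : K = ⊤ := by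
  by_contra hK
  have hF : Fintype.card (ZMod 3) = 3 := rfl
  have key : ∀ {x : ↥Gp}, x ∈ K → orderOf x ∣ Nat.card K := by
    intro x hx
    have h1 := orderOf_dvd_natCard (⟨x, hx⟩ : K)
    rwa [Subgroup.orderOf_mk] at h1
  have k7 := key ha
  have k13 := key hb
  have k8 := key hc
  have k9 := key hd
  rw [oa] at k7
  rw [ob] at k13
  rw [oc] at k8
  rw [od] at k9
  rcases Cfsg.Agent.H834.Sax.pgap_g23 OT hS hF K hK with ⟨r, hr, hrd, hrn⟩ | h
  · rw [Cfsg.Agent.H834.Sax.card_g23 hF, show 4245696 = 2 ^ 6 * 3 ^ 6 * 7 * 13 by norm_num] at hrd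
    have hr4 : r = 2 ∨ r = 3 ∨ r = 7 ∨ r = 13 := by
      rcases (Nat.Prime.dvd_mul hr).1 hrd with h | h
      · rcases (Nat.Prime.dvd_mul hr).1 h with h | h
        · rcases (Nat.Prime.dvd_mul hr).1 h with h | h
          · exact Or.inl ((Nat.prime_dvd_prime_iff_eq hr Nat.prime_two).1 (hr.dvd_of_dvd_pow h))
          · exact Or.inr (Or.inl ((Nat.prime_dvd_prime_iff_eq hr Nat.prime_three).1 (hr.dvd_of_dvd_pow h)))
        · exact Or.inr (Or.inr (Or.inl ((Nat.prime_dvd_prime_iff_eq hr (by norm_num)).1 h)))
      · exact Or.inr (Or.inr (Or.inr ((Nat.prime_dvd_prime_iff_eq hr (by norm_num)).1 h)))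
    rcases hr4 with rfl | rfl | rfl | rfl
    · exact hrn ((by norm_num : 2 ∣ 8).trans k8)
    · exact hrn ((by norm_num : 3 ∣ 9).trans k9)
    · exact hrn k7
    · exact hrn k13
  · have h8 : 8 ∣ 1092 := by
      rw [← h]
      exact k8
    omega

theorem gen_of_crt {x w : List ℕ} {t7 t13 t8 t9 : List Bool} (h : crt x w t7 t13 t8 t9 = true) :
    Subgroup.closure ({ev y x, ev y w} : Set ↥Gp) = ⊤ := by
  unfold crt at h
  simp only [Bool.and_eq_true] at h
  obtain ⟨⟨⟨a1, a2⟩, b1, b2⟩, ⟨c1, c2⟩, d1, d2⟩ := h
  have h1 : ∀ w : List ℕ, rp 1 w = w := fun w => by simp [rp]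
  refine top_of_orders OT hS (fl_mem x w t7) (fl_mem x w t13) (fl_mem x w t8) (fl_mem x w t9) ?_ ?_ ?_ ?_
  · exact order_pow (p := 7) (n := 0) (by norm_num) a1 (by rw [pow_zero, h1]; exact a2)
  · exact order_pow (p := 13) (n := 0) (by norm_num) b1 (by rw [pow_zero, h1]; exact b2)
  · exact order_pow (p := 2) (n := 2) (by norm_num) c1 c2
  · exact order_pow (p := 3) (n := 1) (by norm_num) d1 d2

end

/-- the certificates for inner automorphisms: `w`, `x` and the words -/
def TI : List (List ℕ × List ℕ × List Bool × List Bool × List Bool × List Bool) := [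
  (wz, [19, 0, 17, 0], [true, true, false], [true], [true, false], [true, true, true, false]),
  ([22], [2, 15], [true, true, false], [true, false, false], [true, false], [true]),
  ([18], [6, 13], [true, true, false], [true, false, false], [true, false], [true]),
  ([18, 22], [2, 14], [true, false, true, false, false], [true, false], [true, true, false], [true]),
  ([16, 20], [0, 16], [true, true, true, true, true, false], [true, false], [true, true, false], [true]),
  ([16, 21], [0, 7, 12], [true, false, false], [true, false], [true, true, false], [true]),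
  ([0, 2, 6, 22], [0, 16], [false], [true, false], [true, true, false], [true]),
  ([0, 8, 18], [20, 4], [true, true, false], [false], [true, false], [true])]

/-- the check of an entry -/
noncomputable def ckI (c : List ℕ × List ℕ × List Bool × List Bool × List Bool × List Bool) : Bool :=
  crt c.2.1 c.1 c.2.2.1 c.2.2.2.1 c.2.2.2.2.1 c.2.2.2.2.2

theorem TI_check : ∀ k < 8, ckI (TI.getD k ([], [], [], [], [], [])) = true := by decide +kernel

/-- the certificates for outer involutions -/
def TO (i : ℕ) : List ℕ × List Bool × List Bool × List Bool × List Bool :=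
  if i = 0 then ([0, 8, 20], [true, true, false], [true], [true, true, true, false], [true, false])
  else if i = 5 then ([17, 3, 14], [true, true, false], [true], [true, true, true, false], [true, false])
  else if i = 7 then ([13, 19, 0], [true, true, true, true, true, true, true, false], [true], [true, true, false], [true, false])
  else if i = 19 then ([16, 21, 5], [true, true, true, true, false], [true], [true, true, false], [true, false])
  else if i = 23 then ([17, 3, 14], [true, true, false], [true], [true, true, true, false], [true, false])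
  else if i = 24 then ([18, 9, 7], [true, true, false], [true], [true, true, true, false], [true, false])
  else if i = 25 then ([15, 0, 12], [true, true, true, true, false], [true], [true, true, false], [true, false])
  else ([17, 11, 5], [true, true, true, true, true, true, true, false], [true], [true, true, false], [true, false])

/-- the image of a word under `conj s ∘ γ₁` -/
def im (s b : List ℕ) : List ℕ := s ++ (g1 b ++ iw s)

noncomputable def ckO (i : ℕ) : Bool :=
  nec (ex (PW.getD i []) ++ g1 (ex (PW.getD i []))) [] ||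
    crt (TO i).1 (im (ex (PW.getD i [])) (TO i).1) (TO i).2.1 (TO i).2.2.1 (TO i).2.2.2.1 (TO i).2.2.2.2

theorem TO_check : ∀ i < 64, ckO i = true := by decide +kernel

end Cfsg.Agent.H463.G2.GThree
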