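import Cfsg.Agent.H463.G2.Crt
import Cfsg.Agent.H651.Rad3.G23

/-!
# 3/2-generation of `G₂(3)` (helper463, S3938)

`spr_Gp` : `Spr` for the model `Gp` of `G₂(3)`.  An automorphism of prime order is conjugate to an inner automorphism of one of eight
elements, or to one of eight outer involutions `conj s ∘ γ₁`; the certificates are in `Crt.lean`.
-/

set_option autoImplicit false
set_option maxRecDepth 100000

namespace Cfsg.Agent.H463.G2.GThree

open scoped Pointwise
open Subgroup Cfsg Cfsg.Lie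
open Cfsg.Agent.GTwoThree.Model
open Cfsg.Agent.OddHalf.Small.G23Data Cfsg.Agent.OddHalf.Small.G23Check Cfsg.Agent.OddHalf.Small.G23
open Cfsg.Agent.H96.Rad2.G23
open Cfsg.Agent.OrdDiv (OrderTable)
open Cfsg.Agent.H424.Spr (Spr)

attribute [local irreducible] Cfsg.Agent.GTwoThree.Model.ev Cfsg.Agent.GTwoThree.Model.y

section abstract_part

variable {G : Type*} [Group G]

theorem order_inner (hZ : Subgroup.center G = ⊥) {u : G} {p : ℕ} (h : orderOf (MulAut.conj u) = p) : orderOf u = p := by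
  have conj_inj : Function.Injective (MulAut.conj : G →* MulAut G) := Cfsg.Agent.H839.Rad.conj_injective hZ
  rwa [orderOf_injective _ conj_inj] at h

theorem exists_ne [Nontrivial G] (hZ : Subgroup.center G = ⊥) : ∃ a b : G, a * b ≠ b * a := by
  by_contra hcon
  push Not at hcon
  have h1 : Subgroup.center G = ⊤ := by
    rw [eq_top_iff]
    intro a _
    rw [Subgroup.mem_center_iff]
    intro b
    exact hcon b a
  rw [hZ] at h1
  exact bot_ne_top h1

/-- automorphisms of order two, when `|Out| = 2` -/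
theorem bd_two [Finite G] {S : Subgroup G} {c : MulAut G} (hc : ∀ s ∈ S, c s ∈ S) (hcc : c * c = 1) {k m : ℕ}
    (hZ : Subgroup.center G = ⊥) (hout : Nat.card (Cfsg.Out G) = 2) (hno : ∀ g : G, c ≠ MulAut.conj g)
    (hS : Nat.card S = 2 ^ k) (hG : Nat.card G = 2 ^ k * m) (hm : ¬ 2 ∣ m)
    (hin : ∀ s ∈ S, orderOf s = 2 → Bd (MulAut.conj s)) (hex : ∀ s ∈ S, s * c s = 1 → Bd (MulAut.conj s * c))
    {a : MulAut G} (ha : orderOf a = 2) : Bd a := by
  have conj_inj : Function.Injective (MulAut.conj : G →* MulAut G) := Cfsg.Agent.H839.Rad.conj_injective hZ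
  obtain ⟨e, s, hs, he⟩ := Cfsg.Agent.H96.Rad2.OutTwo.exists_conj hc hcc hZ hout hno hS hG hm ha
  refine Bd.of_conj (e := e) ?_
  rcases he with he | he
  · have ho : orderOf s = 2 := by
      rw [← orderOf_injective _ conj_inj, ← he, ← MulAut.conj_apply, MulEquiv.orderOf_eq, ha]
    rw [he]
    exact hin s hs ho
  · have hsq : (e * a * e⁻¹) * (e * a * e⁻¹) = 1 := by
      have h3 : a * a = 1 := by
        have h4 := pow_orderOf_eq_one a
        rwa [ha, pow_two] at h4
      calc (e * a * e⁻¹) * (e * a * e⁻¹) = e * (a * a) * e⁻¹ := by group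
        _ = 1 := by rw [h3]; group
    have h5 : s * c s = 1 := by
      apply conj_inj
      rw [he] at hsq
      rw [map_mul, map_one, ← hsq, mul_assoc, ← mul_assoc c,
        Cfsg.Agent.H96.Rad2.OutTwo.mul_conj c, mul_assoc _ c c, hcc, mul_one]
    rw [he]
    exact hex s hs h5

end abstract_part

/-- an automorphism of odd order is inner -/
theorem exists_inner {a : MulAut ↥Gp} {p : ℕ} (ha : orderOf a = p) (hp : ¬ 2 ∣ p) : ∃ u : ↥Gp, a = MulAut.conj u := by
  have h1 : (QuotientGroup.mk' (Cfsg.Inn ↥Gp) a) = 1 := by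
    rw [← orderOf_eq_one_iff]
    have h2 := orderOf_map_dvd (QuotientGroup.mk' (Cfsg.Inn ↥Gp)) a
    rw [ha] at h2
    have h3 : orderOf (QuotientGroup.mk' (Cfsg.Inn ↥Gp) a) ∣ 2 :=
      (_root_.orderOf_dvd_natCard _).trans (dvd_of_eq card_out)
    rcases (Nat.dvd_prime Nat.prime_two).1 h3 with h | h
    · exact h
    · rw [h] at h2
      exact absurd h2 hp
  rw [QuotientGroup.mk'_apply, QuotientGroup.eq_one_iff] at h1
  obtain ⟨u, hu⟩ := h1
  exact ⟨u, hu.symm⟩

/-- Sylow subgroups of prime order -/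
theorem sylow_conj {G : Type*} [Group G] [Finite G] {p : ℕ} [hp : Fact p.Prime] (h2 : ¬ p ^ 2 ∣ Nat.card G) {x u : G}
    (hx : orderOf x = p) (hu : orderOf u = p) : ∃ c : G, Subgroup.zpowers (c * u * c⁻¹) = Subgroup.zpowers x := by
  have key : ∀ w : G, orderOf w = p → ∃ P : Sylow p G, (P : Subgroup G) = Subgroup.zpowers w := by
    intro w hw
    have hd : p ∣ Nat.card G := by rw [← hw]; exact orderOf_dvd_natCard w
    have hc0 : Nat.card G ≠ 0 := Nat.card_pos.ne'
    have hf : (Nat.card G).factorization p = 1 := by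
      have h3 : 1 ≤ (Nat.card G).factorization p := (hp.out.dvd_iff_one_le_factorization hc0).1 hd
      have h4 : ¬ 2 ≤ (Nat.card G).factorization p := fun h => h2 ((hp.out.pow_dvd_iff_le_factorization hc0).2 h)
      omega
    exact ⟨Sylow.ofCard (Subgroup.zpowers w) (by rw [Nat.card_zpowers, hw, hf, pow_one]), rfl⟩
  obtain ⟨P, hP⟩ := key x hx
  obtain ⟨Q, hQ⟩ := key u hu
  obtain ⟨c, hc⟩ := MulAction.exists_smul_eq G Q P
  refine ⟨c, ?_⟩
  have h1 : c * u * c⁻¹ ∈ Subgroup.zpowers x := by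
    rw [← hP, ← hc, Sylow.coe_subgroup_smul, hQ]
    exact Subgroup.smul_mem_pointwise_smul u (MulAut.conj c) _ (Subgroup.mem_zpowers u)
  refine Subgroup.eq_of_le_of_card_ge (Subgroup.zpowers_le.2 h1) ?_
  rw [Nat.card_zpowers, Nat.card_zpowers, hx, ← MulAut.conj_apply, MulEquiv.orderOf_eq, hu]

section

variable (OT : OrderTable.{0}) (hS : ∀ (X : Type) [Group X] [Finite X] [IsSimpleGroup X], Cfsg.IsKnownSimple' X)

include OT hS

/-- the representatives lie in generating pairs -/
theorem gd_rep {k : ℕ} (hk : k < 8) : Gd (ev y (TI.getD k ([], [], [], [], [], [])).1) :=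
  ⟨_, gen_of_crt OT hS (TI_check k hk)⟩

theorem gd_two {s : ↥Gp} (hs : orderOf s = 2) : Gd s := by
  obtain ⟨c, hc⟩ := exists_conj hs
  refine Gd.of_conj (c := c) ?_
  rw [hc]
  exact gd_rep OT hS (k := 0) (by norm_num)

theorem gd_three {u : ↥Gp} (hu : orderOf u = 3) : Gd u := by
  obtain ⟨g, k, hk, hg⟩ := Cfsg.Agent.H651.Rad3.G23.exists_conj_rep hu
  refine Gd.of_conj (c := g) ?_
  rw [hg]
  have h := gd_rep OT hS (k := k + 1) (by omega)
  have e : ∀ k < 5, (TI.getD (k + 1) ([], [], [], [], [], [])).1 = Cfsg.Agent.H651.Rad3.G23.rep.getD k [] := by decide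
  rwa [e k hk] at h

theorem gd_seven {u : ↥Gp} (hu : orderOf u = 7) : Gd u := by
  have i7 : Fact (Nat.Prime 7) := ⟨by norm_num⟩
  have hx : orderOf (ev y [0, 2, 6, 22]) = 7 :=
    order_pow (p := 7) (n := 0) (by norm_num) (u := [0, 2, 6, 22]) (by decide +kernel) (by decide +kernel)
  obtain ⟨c, hc⟩ := sylow_conj (by rw [card_G]; norm_num) hx hu
  exact Gd.of_conj (c := c) ((gd_rep OT hS (k := 6) (by norm_num)).of_zpowers hc.symm)

theorem gd_thirteen {u : ↥Gp} (hu : orderOf u = 13) : Gd u := by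
  have i13 : Fact (Nat.Prime 13) := ⟨by norm_num⟩
  have hx : orderOf (ev y [0, 8, 18]) = 13 :=
    order_pow (p := 13) (n := 0) (by norm_num) (u := [0, 8, 18]) (by decide +kernel) (by decide +kernel)
  obtain ⟨c, hc⟩ := sylow_conj (by rw [card_G]; norm_num) hx hu
  exact Gd.of_conj (c := c) ((gd_rep OT hS (k := 7) (by norm_num)).of_zpowers hc.symm)

/-- an element of prime order lies in a generating pair -/
theorem gd_prime {u : ↥Gp} {p : ℕ} (hp : p.Prime) (hu : orderOf u = p) : Gd u := by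
  have hrd : p ∣ 2 ^ 6 * 66339 := by rw [← card_G, ← hu]; exact orderOf_dvd_natCard u
  rw [show 2 ^ 6 * 66339 = 2 ^ 6 * 3 ^ 6 * 7 * 13 by norm_num] at hrd
  rcases (Nat.Prime.dvd_mul hp).1 hrd with h | h
  · rcases (Nat.Prime.dvd_mul hp).1 h with h | h
    · rcases (Nat.Prime.dvd_mul hp).1 h with h | h
      · exact gd_two OT hS (hu.trans ((Nat.prime_dvd_prime_iff_eq hp Nat.prime_two).1 (hp.dvd_of_dvd_pow h)))
      · exact gd_three OT hS (hu.trans ((Nat.prime_dvd_prime_iff_eq hp Nat.prime_three).1 (hp.dvd_of_dvd_pow h)))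
    · exact gd_seven OT hS (hu.trans ((Nat.prime_dvd_prime_iff_eq hp (by norm_num)).1 h))
  · exact gd_thirteen OT hS (hu.trans ((Nat.prime_dvd_prime_iff_eq hp (by norm_num)).1 h))

/-- the outer involutions -/
theorem bd_outer {i : ℕ} (hi : i < 64) (h1 : ev y (ex (PW.getD i [])) * γ1 (ev y (ex (PW.getD i []))) = 1) :
    Bd (MulAut.conj (ev y (ex (PW.getD i []))) * γ1) := by
  have hc := TO_check i hi
  unfold ckO at hc
  rw [Bool.or_eq_true] at hc
  rcases hc with hc | hc
  · exfalso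
    apply ne_of_nec hc
    rw [ev_append, ← γ1_ev, ev_nil]
    exact h1
  · have h2 := gen_of_crt OT hS hc
    refine Bd.of_gen (x := ev y (TO i).1) ?_
    have h3 : (MulAut.conj (ev y (ex (PW.getD i []))) * γ1) (ev y (TO i).1) =
        ev y (im (ex (PW.getD i [])) (TO i).1) := by
      rw [im, ev_append, ev_append, ev_iw (PW_let i hi), ← γ1_ev, MulAut.mul_apply, MulAut.conj_apply, mul_assoc]
    rw [h3]
    exact h2

/-- **`Spr` for the model of `G₂(3)`** -/
theorem spr_Gp (hs : IsSimpleGroup ↥Gp) : Spr ↥Gp := by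
  have hna := exists_ne center_Gp
  refine spr_of_prime fun a p hp ha => ?_
  by_cases h2 : p = 2
  · subst h2
    refine bd_two (S := PS 5) (c := γ1) (fun s hs => γ1_mem hs) γ1_mul_self center_Gp card_out γ1_outer card_PS card_G
      (by norm_num) ?_ ?_ ha
    · intro s _ ho
      exact Bd.of_inn hna (gd_two OT hS ho)
    · intro s hs' h5
      obtain ⟨i, hi, rfl⟩ := exists_P hs'
      exact bd_outer OT hS hi h5
  · have hp2 : ¬ 2 ∣ p := fun h => h2 ((Nat.prime_dvd_prime_iff_eq Nat.prime_two hp).1 h).symm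
    obtain ⟨u, rfl⟩ := exists_inner ha hp2
    exact Bd.of_inn hna (gd_prime OT hS hp (order_inner center_Gp ha))

end

end Cfsg.Agent.H463.G2.GThree
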