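import Cfsg.Agent.H463.G2.SprA
import Cfsg.Agent.H463.G2.G23
import Cfsg.Agent.H862.Spr.Rows

/-!
# The row `G₂(3^a)` of S3938 (helper463)

`row_g23` : `Row (.g2 3)`.  `row_of` : `Row (.g2 q)`, `q = 3^a ≥ 9`, from an element of order `q² - q + 1` whose proper overgroups
normalise it or have the socle `U₃(q)`.
-/

set_option autoImplicit false

namespace Cfsg.Agent.H463.G2

open Cfsg Cfsg.Lie
open Cfsg.Agent.OrdDiv Cfsg.Agent.H436
open Cfsg.Agent.H424.Spr (Spr)
open Cfsg.Agent.H862.Spr (Row)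
open Cfsg.Agent.H56.Wei (Over)

theorem exists_ne_of_card {T : Type*} [Group T] [IsSimpleGroup T] [Finite T] {a b : ℕ} (ha : a ≠ b)
    (hap : a.Prime) (hbp : b.Prime) (h1 : a ∣ Nat.card T) (h2 : b ∣ Nat.card T) : ∃ x y : T, x * y ≠ y * x := by
  by_contra hcon
  push Not at hcon
  have hc : ∀ x y : T, x * y = y * x := hcon
  let _ : CommGroup T := { (inferInstance : Group T) with mul_comm := hc }
  have hp : (Nat.card T).Prime := IsSimpleGroup.prime_card
  have e1 := (Nat.prime_dvd_prime_iff_eq hap hp).1 h1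
  have e2 := (Nat.prime_dvd_prime_iff_eq hbp hp).1 h2
  exact ha (e1.trans e2.symm)

/-- the order of `G₂(q)`, `q = 3^a`, is even and divisible by `3` -/
theorem exists_ne_g2 {T : Type*} [Group T] [IsSimpleGroup T] [Finite T] {F : Type} [Field F] [Fintype F] {q a : ℕ}
    (hq : Fintype.card F = q) (hqa : q = 3 ^ a) (ha : a ≠ 0) (e : T ≃* ↥(chevG2.group F)) : ∃ x y : T, x * y ≠ y * x := by
  have hc : Nat.card T = q ^ 6 * (q ^ 2 - 1) * (q ^ 6 - 1) :=
    (Nat.card_congr e.toEquiv).trans (Cfsg.Agent.S1059.result hq)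
  refine exists_ne_of_card (a := 2) (b := 3) (by norm_num) Nat.prime_two Nat.prime_three ?_ ?_
  · rw [hc]
    refine Dvd.dvd.mul_right (Dvd.dvd.mul_left ?_ _) _
    have hodd : Odd (q ^ 2) := by
      rw [hqa]
      exact ((by decide : Odd 3).pow).pow
    exact (Nat.Odd.sub_odd hodd odd_one).two_dvd
  · rw [hc]
    refine Dvd.dvd.mul_right (Dvd.dvd.mul_right ?_ _) _
    rw [hqa, ← pow_mul]
    exact dvd_pow_self 3 (by omega)

/-- `Row (.g2 q)` from `Spr (chevG2.group F)` -/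
theorem row_of_spr {q : ℕ} (h : ∀ {F : Type} [Field F] [Fintype F], Fintype.card F = q →
    IsSimpleGroup ↥(chevG2.group F) → Spr ↥(chevG2.group F)) : Row (.g2 q) := by
  intro T _ _ hT hn
  obtain ⟨F, i1, i2, hF, ⟨e⟩⟩ := hn.real
  exact Spr.congr e.symm (h hF e.symm.isSimpleGroup)

section

variable (OT : OrderTable.{0}) (hS : ∀ (X : Type) [Group X] [Finite X] [IsSimpleGroup X], Cfsg.IsKnownSimple' X)

include OT hS

omit OT hS in
theorem spr_of {K L : Type*} [Group K] [Group L] (h : IsSimpleGroup L → Spr L) (e : K ≃* L) (hs : IsSimpleGroup K) :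
    Spr K := Spr.congr e.symm (h e.symm.isSimpleGroup)

theorem spr_g23 {K : Type*} [Group K] (hs : IsSimpleGroup K) {F : Type} [Field F] [Fintype F]
    (hF : Fintype.card F = 3) (e : Nonempty (K ≃* ↥(Cfsg.Lie.chevG2.group F))) : Spr K := by
  obtain ⟨e⟩ := e
  have h3 : Fintype.card (ZMod 3) = Fintype.card F := by rw [hF]; rfl
  let φ : ZMod 3 ≃+* F := FiniteField.ringEquivOfCardEq h3
  obtain ⟨e'⟩ := Cfsg.Agent.H651.Rad3.G23.exists_equiv
  exact spr_of (Cfsg.Agent.H463.G2.GThree.spr_Gp OT hS)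
    ((e.trans (Cfsg.Agent.ChevalleyStructure.FieldIso.groupEquiv Cfsg.Lie.chevG2 φ).symm).trans e') hs

/-- **`G₂(3)`** -/
theorem row_g23 : Row (.g2 3) := by
  intro T _ _ hT hn
  obtain ⟨F, i1, i2, hF, e⟩ := hn.real
  exact spr_g23 OT hS hT hF e

end

/-- **`G₂(3^a)`, `a ≥ 2`, from the overgroups of the torus** -/
theorem row_of {q a : ℕ} (hqa : q = 3 ^ a) (hq9 : 9 ≤ q)
    (hO : ∀ {F : Type} [Field F] [Fintype F], Fintype.card F = q → IsSimpleGroup ↥(chevG2.group F) →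
      ∃ x : ↥(chevG2.group F), orderOf x = q ^ 2 - q + 1 ∧ Over x (fun g => g = .psu 3 q)) : Row (.g2 q) := by
  refine row_of_spr fun {F} _ _ hF hs => ?_
  have i3 : Fact (Nat.Prime 3) := ⟨Nat.prime_three⟩
  have ha : a ≠ 0 := by
    rintro rfl
    rw [pow_zero] at hqa
    omega
  have : CharP F 3 := charP_of_card_eq_prime_pow (p := 3) (f := a) (by rw [hF, hqa])
  obtain ⟨x, hx, hx'⟩ := hO hF hs
  exact spr_of_over (exists_ne_g2 hF hqa ha (MulEquiv.refl _)) hF hqa hq9 hx hx'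

end Cfsg.Agent.H463.G2
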