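import Cfsg.Agent.H463.G2.Row
import Cfsg.Agent.H394.Wei.G2Six
import Cfsg.Agent.H983.Cov.Data
import Cfsg.Agent.H244.G2S.Five

/-!
# The rows `G₂(3^a)` of S3938 (helper463)

`row_three` : `Row (.g2 (3 ^ a))` for every `a ≥ 1`: `row_g23` for `a = 1`; for `a ≥ 2` the torus of order `q² - q + 1`
(helper394, `over_g2_six`) and `row_of`.  `row_g2_of` : all rows `G₂(q)` from the rows with `3 ∤ q`.  `row_g2_all` : all
rows `G₂(q)`, unconditional (the rows with `3 ∤ q` are helper244's `row_g2`).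
-/

set_option autoImplicit false

namespace Cfsg.Agent.H463.G2

open Cfsg Cfsg.Lie
open Cfsg.Agent.OrdDiv Cfsg.Agent.H436
open Cfsg.Agent.H862.Spr (Row)
open Cfsg.Agent.H56.Wei (Over)

/-- the torus of order `q² - q + 1` in `G₂(q)`, `q = 3 ^ a ≥ 9` -/
theorem exists_over {a : ℕ} (ha : 2 ≤ a) {F : Type} [Field F] [Fintype F] (hF : Fintype.card F = 3 ^ a)
    (hs : IsSimpleGroup ↥(chevG2.group F)) :
    ∃ x : ↥(chevG2.group F), orderOf x = (3 ^ a) ^ 2 - 3 ^ a + 1 ∧ Over x (fun g => g = .psu 3 (3 ^ a)) := by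
  have h3 : 3 ≤ 3 ^ a := by
    calc 3 = 3 ^ 1 := (pow_one 3).symm
      _ ≤ 3 ^ a := Nat.pow_le_pow_right (by norm_num) (by omega)
  obtain ⟨x, hx⟩ := Cfsg.Agent.H983.Cov.exists_y6 hF Nat.prime_three (by omega) h3
  have hT : IsNamed (.g2 (3 ^ a)) ↥(chevG2.group F) := by
    refine .mk' ⟨F, inferInstance, inferInstance, hF, ⟨MulEquiv.refl _⟩⟩
      ⟨h3, Nat.prime_three.isPrimePow.pow (by omega)⟩ ?_
    have hc : Nat.card ↥(chevG2.group F) = (3 ^ a) ^ 6 * ((3 ^ a) ^ 2 - 1) * ((3 ^ a) ^ 6 - 1) :=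
      Cfsg.Agent.S1059.result hF
    change 1 * Nat.card ↥(chevG2.group F) = (3 ^ a) ^ 6 * (((3 ^ a) ^ 2 - 1) * ((3 ^ a) ^ 6 - 1))
    rw [hc]
    ring
  exact ⟨x, hx, Cfsg.Agent.H394.Wei.over_g2_six ha hT hx⟩

section

variable (OT : OrderTable.{0}) (hS : ∀ (X : Type) [Group X] [Finite X] [IsSimpleGroup X], Cfsg.IsKnownSimple' X)

include OT hS

/-- **`G₂(3^a)`** -/
theorem row_three {a : ℕ} (ha : a ≠ 0) : Row (.g2 (3 ^ a)) := by
  rcases Nat.lt_or_ge a 2 with h | h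
  · obtain rfl : a = 1 := by omega
    rw [pow_one]
    exact row_g23 OT hS
  · refine row_of rfl ?_ fun {F} _ _ hF hs => exists_over h hF hs
    calc 9 = 3 ^ 2 := by norm_num
      _ ≤ 3 ^ a := Nat.pow_le_pow_right (by norm_num) h

/-- **`G₂(q)` from the characteristics other than `3`** -/
theorem row_g2_of (h : ∀ q : ℕ, IsPrimePow q → 4 ≤ q → ¬ 3 ∣ q → Row (.g2 q)) (q : ℕ) : Row (.g2 q) := by
  intro T _ _ hT hn
  have hc := hn.cond
  have hc' : 3 ≤ q ∧ IsPrimePow q := hc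
  by_cases h3 : 3 ∣ q
  · obtain ⟨p, k, hp, hk, rfl⟩ := (isPrimePow_nat_iff _).1 hc'.2
    have h4 : 3 ∣ p := Nat.prime_three.dvd_of_dvd_pow h3
    obtain rfl : 3 = p := (Nat.prime_dvd_prime_iff_eq Nat.prime_three hp).1 h4
    exact row_three OT hS hk.ne' hT hn
  · refine h q hc'.2 ?_ h3 hT hn
    rcases Nat.lt_or_ge q 4 with h5 | h5
    · exfalso
      obtain rfl : q = 3 := by omega
      exact h3 dvd_rfl
    · exact h5

end

/-- **All rows `G₂(q)`.** -/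
theorem row_g2_all (q : ℕ) : Row (.g2 q) :=
  row_g2_of Cfsg.Agent.OrdDiv.table (fun _ _ _ _ => Cfsg.Agent.S0000.result) (fun _ _ _ h3 => Cfsg.Agent.H244.G2S.row_g2 h3) q

end Cfsg.Agent.H463.G2
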